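import Cfsg.Agent.Lib.KnownB.LyMult.Glue
import Cfsg.Agent.Lib.KnownB.LyMult.Check.F0
import Cfsg.Agent.Lib.KnownB.LyMult.Check.F1
import Cfsg.Agent.Lib.KnownB.LyMult.Check.F2
import Cfsg.Agent.Lib.KnownB.LyMult.Check.F3
import Cfsg.Agent.Lib.KnownB.LyMult.Check.F4
import Cfsg.Agent.Lib.KnownB.LyMult.Check.F5
import Cfsg.Agent.Lib.KnownB.LyMult.Check.F6
import Cfsg.Agent.Lib.KnownB.LyMult.Check.F7
import Cfsg.Agent.Lib.KnownB.LyMult.Check.F8
import Cfsg.Agent.Lib.KnownB.LyMult.Check.F9
import Cfsg.Agent.Lib.KnownB.LyMult.Check.F10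
import Cfsg.Agent.Lib.KnownB.LyMult.Check.F11

/-!
All facts of the enumeration over `⟨a, b, c, d⟩` are checked.
-/

set_option autoImplicit false

namespace CfsgLib.KnownB.LyMult

open CfsgLib.DCE CfsgLib.Spor.Ly

theorem gk_setup : (mkSetup GK.P [0, 2, 4, 1]).okSetup = true := by decide +kernel

theorem gk_same : okSame GK.P [0, 2, 4, 1] = true := by decide +kernel

theorem gk_id : okId GK.P [0, 2, 4, 1] = true := by decide +kernel

theorem cFacts_len : cFacts.length = 226 := by decide +kernel

theorem gk_facts : ∀ n < cFacts.length, (mkSetup GK.P [0, 2, 4, 1]).okFact cFacts n = true := by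
  intro n hn
  rw [cFacts_len] at hn
  by_cases h0 : n < 20
  · exact okRange_get ((okRangeT_eq _ _ _ _).symm.trans facts0_ok) n (by omega) (by omega)
  by_cases h1 : n < 40
  · exact okRange_get ((okRangeT_eq _ _ _ _).symm.trans facts1_ok) n (by omega) (by omega)
  by_cases h2 : n < 60
  · exact okRange_get ((okRangeT_eq _ _ _ _).symm.trans facts2_ok) n (by omega) (by omega)
  by_cases h3 : n < 80
  · exact okRange_get ((okRangeT_eq _ _ _ _).symm.trans facts3_ok) n (by omega) (by omega)
  by_cases h4 : n < 100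
  · exact okRange_get ((okRangeT_eq _ _ _ _).symm.trans facts4_ok) n (by omega) (by omega)
  by_cases h5 : n < 120
  · exact okRange_get ((okRangeT_eq _ _ _ _).symm.trans facts5_ok) n (by omega) (by omega)
  by_cases h6 : n < 140
  · exact okRange_get ((okRangeT_eq _ _ _ _).symm.trans facts6_ok) n (by omega) (by omega)
  by_cases h7 : n < 160
  · exact okRange_get ((okRangeT_eq _ _ _ _).symm.trans facts7_ok) n (by omega) (by omega)
  by_cases h8 : n < 180
  · exact okRange_get ((okRangeT_eq _ _ _ _).symm.trans facts8_ok) n (by omega) (by omega)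
  by_cases h9 : n < 200
  · exact okRange_get ((okRangeT_eq _ _ _ _).symm.trans facts9_ok) n (by omega) (by omega)
  by_cases h10 : n < 220
  · exact okRange_get ((okRangeT_eq _ _ _ _).symm.trans facts10_ok) n (by omega) (by omega)
  by_cases h11 : n < 226
  · exact okRange_get ((okRangeT_eq _ _ _ _).symm.trans facts11_ok) n (by omega) (by omega)
  omega

end CfsgLib.KnownB.LyMult
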