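import Cfsg.Agent.Lib.KnownB.LyMult.Fast
import Cfsg.Agent.Lib.KnownB.LyMult.Cert.Setup
import Cfsg.Agent.Lib.KnownB.LyMult.Cert.Facts
import Cfsg.Agent.Lib.Spor.Ly.GKPerm

/-!
Kernel check of facts 200 to 219 of the enumeration over `⟨a, b, c, d⟩`.
-/

set_option maxRecDepth 100000

namespace CfsgLib.KnownB.LyMult

open CfsgLib.DCE

theorem facts10_ok :
    okRangeT (mkSetup CfsgLib.Spor.Ly.GK.P [0, 2, 4, 1]) cFacts 200 20 = true := by
  decide +kernel

end CfsgLib.KnownB.LyMult
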